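import Groth.Agent.Lib.AlgSpDecent.QSCharts
import Groth.Agent.Lib.AlgSpMor.QC
import Groth.Agent.Lib.AlgSpace.DiagProp
import Groth.Agent.Lib.Spectral.Basic
import Mathlib.Topology.Spectral.Basic

/-! # Locally constructible subsets of the points of a quasi-separated algebraic space -/

universe u

open CategoryTheory CategoryTheory.Limits AlgebraicGeometry Topology TopologicalSpace
open AlgSp Set.Notation
open Groth.Agent.Lib

namespace Groth.Agent.H8.LocCons.Basic

variable {S : Scheme.{u}} {F : Sp S}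

/-- Images of affine opens of a chart form a basis. -/
theorem isTopologicalBasis_affine {U : Over S} {a : (yon S).obj U ⟶ F} (ha : RepWith @Etale a)
    (hs : RepWith @Surjective a) :
    IsTopologicalBasis
      (Set.range fun O : U.left.affineOpens => Points.ofPt a '' (O.1 : Set ↥U.left)) := by
  refine isTopologicalBasis_of_isOpen_of_nhds ?_ fun x W hx hW => ?_
  · rintro _ ⟨O, rfl⟩
    exact AlgSpace.isOpenMap_ofPt ha _ O.1.2
  · obtain ⟨v, rfl⟩ := AlgSpace.surjective_ofPt hs x
    obtain ⟨O, hO, hv, hsub⟩ := U.left.isBasis_affineOpens.exists_subset_of_mem_open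
      (show v ∈ Points.ofPt a ⁻¹' W from hx) (hW.preimage (Points.continuous_ofPt a))
    obtain ⟨O, hO', rfl⟩ := hO
    exact ⟨_, ⟨⟨O, hO'⟩, rfl⟩, ⟨v, hv, rfl⟩, Set.image_subset_iff.2 hsub⟩

/-- The image of an affine open meets the pullback to another affine open in a compact set. -/
theorem isCompact_inter_preimage_image [QuasiSeparatedSpace ↥S] (hd : Representable (Limits.diag F))
    (hqs : IsQuasiSeparatedSp F) {U V : Over S} (a : (yon S).obj U ⟶ F) (b : (yon S).obj V ⟶ F)
    {O : U.left.Opens} (hO : IsAffineOpen O) {O' : V.left.Opens} (hO' : IsAffineOpen O') :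
    IsCompact ((O : Set ↥U.left) ∩ Points.ofPt a ⁻¹' (Points.ofPt b '' (O' : Set ↥V.left))) := by
  obtain ⟨E, p, q, sq⟩ := AlgSpace.exists_isPullback_yon hd
    ((yon S).map (AlgSpDecent.Specialize.openIncl O) ≫ a)
    ((yon S).map (AlgSpDecent.Specialize.openIncl O') ≫ b)
  have : IsAffine (Over.mk (O.ι ≫ U.hom)).left := hO
  have : IsAffine (Over.mk (O'.ι ≫ V.hom)).left := hO'
  have : CompactSpace ↥((Over.mk (O.ι ≫ U.hom)) ⨯ (Over.mk (O'.ι ≫ V.hom))).left := by
    have : CompactSpace ↥(O : Scheme.{u}) :=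
      inferInstanceAs (CompactSpace ↥(Over.mk (O.ι ≫ U.hom)).left)
    have : CompactSpace ↥(O' : Scheme.{u}) :=
      inferInstanceAs (CompactSpace ↥(Over.mk (O'.ι ≫ V.hom)).left)
    have : QuasiCompact (O'.ι ≫ V.hom) := inferInstance
    have : CompactSpace ↥(Limits.pullback (O.ι ≫ U.hom) (O'.ι ≫ V.hom)) :=
      QuasiCompact.compactSpace_of_compactSpace (Limits.pullback.fst _ _)
    exact (Over.prodLeftIsoPullback _ _).symm.schemeIsoToHomeo.compactSpace
  have := AlgSpDecent.QS.compactSpace_of_isPullback hqs (AlgSpace.isPullback_diag_yonProd sq)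
  have e : (O : Set ↥U.left) ∩ Points.ofPt a ⁻¹' (Points.ofPt b '' (O' : Set ↥V.left)) =
      Set.range fun w => O.ι (p.left w) := by
    ext v
    constructor
    · rintro ⟨hv, ⟨v', hv', e⟩⟩
      obtain ⟨w, h₁, -⟩ := (AlgSpace.ofPt_eq_ofPt_iff_of_isPullback sq ⟨v, hv⟩ ⟨v', hv'⟩).1
        ((AlgSpDecent.Specialize.ofPt_openIncl_comp O a ⟨v, hv⟩).trans
          (e.symm.trans (AlgSpDecent.Specialize.ofPt_openIncl_comp O' b ⟨v', hv'⟩).symm))
      exact ⟨w, by simp only [h₁]; rfl⟩
    · rintro ⟨w, rfl⟩
      refine ⟨(p.left w).2, O'.ι (q.left w), (q.left w).2, ?_⟩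
      exact ((AlgSpDecent.Specialize.ofPt_openIncl_comp O' b _).symm.trans
        ((AlgSpace.ofPt_eq_ofPt_iff_of_isPullback sq (p.left w) (q.left w)).2
          ⟨w, rfl, rfl⟩).symm).trans (AlgSpDecent.Specialize.ofPt_openIncl_comp O a _)
  rw [e]
  exact isCompact_range (O.ι.continuous.comp p.left.continuous)

/-- Pullback of a compact open subset to an affine open of a scheme mapping to the space. -/
theorem isCompact_inter_preimage [QuasiSeparatedSpace ↥S] (hF : IsAlgSpace F)
    (hqs : IsQuasiSeparatedSp F) {U : Over S} (a : (yon S).obj U ⟶ F)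
    {O : U.left.Opens} (hO : IsAffineOpen O) {W : Set (Points F)} (hW : IsOpen W)
    (hWc : IsCompact W) : IsCompact ((O : Set ↥U.left) ∩ Points.ofPt a ⁻¹' W) := by
  obtain ⟨V, b, hb, hbs⟩ := hF.atlas
  have hB := isTopologicalBasis_affine hb hbs
  obtain ⟨s, hs, rfl⟩ := eq_finite_iUnion_of_isTopologicalBasis_of_isCompact_open
    _ hB W hWc hW
  rw [Set.preimage_iUnion₂, Set.inter_iUnion₂]
  exact hs.isCompact_biUnion fun i _ => isCompact_inter_preimage_image hF.diag hqs a b hO i.2

theorem prespectralSpace_points (hF : IsAlgSpace F) : PrespectralSpace (Points F) := by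
  obtain ⟨V, b, hb, hbs⟩ := hF.atlas
  exact .of_isTopologicalBasis' (isTopologicalBasis_affine hb hbs) fun O =>
    O.2.isCompact.image (Points.continuous_ofPt b)

theorem quasiSeparatedSpace_points [QuasiSeparatedSpace ↥S] (hF : IsAlgSpace F)
    (hqs : IsQuasiSeparatedSp F) : QuasiSeparatedSpace (Points F) := by
  obtain ⟨V, b, hb, hbs⟩ := hF.atlas
  refine QuasiSeparatedSpace.of_isTopologicalBasis (isTopologicalBasis_affine hb hbs) fun O O' => ?_
  have := (isCompact_inter_preimage hF hqs b O.2 (AlgSpace.isOpenMap_ofPt hb _ O'.1.2)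
    (O'.2.isCompact.image (Points.continuous_ofPt b))).image (Points.continuous_ofPt b)
  rwa [Set.image_inter_preimage] at this

/-- The map from an affine open of a chart to a compact open containing its image is spectral. -/
theorem isSpectralMap_restrict [QuasiSeparatedSpace ↥S] (hF : IsAlgSpace F)
    (hqs : IsQuasiSeparatedSp F) {U : Over S} (a : (yon S).obj U ⟶ F)
    {O : U.left.Opens} (hO : IsAffineOpen O) {W : Set (Points F)} (hW : IsOpen W)
    (hOW : ∀ v ∈ O, Points.ofPt a v ∈ W) :
    IsSpectralMap (fun z : O.toScheme => (⟨Points.ofPt a (O.ι z), hOW _ z.2⟩ : W)) where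
  toContinuous := ((Points.continuous_ofPt a).comp O.ι.continuous).subtype_mk _
  isCompact_preimage_of_isOpen s hs hsc := by
    rw [O.ι.isOpenEmbedding.isInducing.isCompact_iff]
    convert isCompact_inter_preimage hF hqs a hO (hW.isOpenMap_subtype_val _ hs)
      (hsc.image continuous_subtype_val) using 1
    ext v
    constructor
    · rintro ⟨z, hz, rfl⟩
      exact ⟨z.2, _, hz, rfl⟩
    · rintro ⟨hv, w, hw, e⟩
      refine ⟨⟨v, hv⟩, ?_, rfl⟩
      show (⟨Points.ofPt a v, hOW v hv⟩ : W) ∈ s
      have : w = ⟨Points.ofPt a v, hOW v hv⟩ := Subtype.ext e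
      exact this ▸ hw

/-- Etale local constructibility agrees with local constructibility on the points. -/
theorem forall_isLocallyConstructible_iff [QuasiSeparatedSpace ↥S] (hF : IsAlgSpace F)
    (hqs : IsQuasiSeparatedSp F) (E : Set (Points F)) :
    (∀ (U : Over S) (a : (yon S).obj U ⟶ F), RepWith @Etale a →
        IsLocallyConstructible (Points.ofPt a ⁻¹' E)) ↔ IsLocallyConstructible E := by
  have hD := AlgSpDecent.QS.isDecent_of_isQuasiSeparatedSp hF hqs
  have := AlgSpDecent.Decent.t0Space_points hF hD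
  have := AlgSpDecent.Sober.quasiSober_points hF hD
  have := prespectralSpace_points hF
  have := quasiSeparatedSpace_points hF hqs
  constructor
  · intro h x
    obtain ⟨U, a, ha, hs⟩ := hF.atlas
    obtain ⟨v, rfl⟩ := AlgSpace.surjective_ofPt hs x
    obtain ⟨_, ⟨O, hO, rfl⟩, hv, -⟩ :=
      U.left.isBasis_affineOpens.exists_subset_of_mem_open (Set.mem_univ v) isOpen_univ
    change U.left.Opens at O
    let W : Set (Points F) := Points.ofPt a '' (O : Set ↥U.left)
    have hW : IsOpen W := AlgSpace.isOpenMap_ofPt ha _ O.2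
    have hWc : IsCompact W := hO.isCompact.image (Points.continuous_ofPt a)
    refine ⟨W, hW.mem_nhds ⟨v, hv, rfl⟩, hW, ?_⟩
    have : CompactSpace W := isCompact_iff_compactSpace.1 hWc
    have : QuasiSober W := hW.isOpenEmbedding_subtypeVal.quasiSober
    have : PrespectralSpace W := hW.isOpenEmbedding_subtypeVal.prespectralSpace
    have : QuasiSeparatedSpace W := hW.isOpenEmbedding_subtypeVal.quasiSeparatedSpace
    have : IsAffine O.toScheme := hO
    have : SpectralSpace O.toScheme := { }
    have : SpectralSpace W := { }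
    let q : O.toScheme → W := fun z => ⟨Points.ofPt a (O.ι z), _, z.2, rfl⟩
    have hq : IsSpectralMap q :=
      isSpectralMap_restrict hF hqs a hO hW fun v hv => ⟨v, hv, rfl⟩
    have hc : IsConstructible (q ⁻¹' (W ↓∩ E)) :=
      ((h U a ha).preimage_of_isOpenEmbedding O.ι.isOpenEmbedding).isConstructible
    have hsurj : Function.Surjective q := fun ⟨_, u, hu, e⟩ => ⟨⟨u, hu⟩, Subtype.ext e⟩
    rw [Spectral.Basic.isConstructible_iff_isClopen_cons] at hc ⊢
    refine ⟨?_, ?_⟩
    · rw [← Set.image_preimage_eq (W ↓∩ E) hsurj]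
      exact Spectral.Basic.isClosed_cons_image hq hc.1
    · rw [← @isClosed_compl_iff _ (constructibleTopology W),
        ← Set.image_preimage_eq (W ↓∩ E)ᶜ hsurj]
      exact Spectral.Basic.isClosed_cons_image hq
        ((@isClosed_compl_iff _ (constructibleTopology _) _).2 hc.2)
  · intro hE U a _ u
    obtain ⟨V, hV, hVo, hVc⟩ := hE (Points.ofPt a u)
    obtain ⟨W, ⟨hW, hWc⟩, huW, hWV⟩ := PrespectralSpace.isTopologicalBasis.exists_subset_of_mem_open
      (mem_of_mem_nhds hV) hVo
    obtain ⟨_, ⟨O, hO, rfl⟩, huO, hOW⟩ :=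
      U.left.isBasis_affineOpens.exists_subset_of_mem_open (show u ∈ Points.ofPt a ⁻¹' W from huW)
        (hW.preimage (Points.continuous_ofPt a))
    change U.left.Opens at O
    refine ⟨O, O.2.mem_nhds huO, O.2, ?_⟩
    have : CompactSpace W := isCompact_iff_compactSpace.1 hWc
    have : QuasiSober W := hW.isOpenEmbedding_subtypeVal.quasiSober
    have : PrespectralSpace W := hW.isOpenEmbedding_subtypeVal.prespectralSpace
    have : QuasiSeparatedSpace W := hW.isOpenEmbedding_subtypeVal.quasiSeparatedSpace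
    have : IsAffine O.toScheme := hO
    have : SpectralSpace O.toScheme := { }
    have : SpectralSpace W := { }
    have hc : IsConstructible (W ↓∩ E) :=
      show IsConstructible (Set.inclusion hWV ⁻¹' (V ↓∩ E)) from
        hVc.preimage_of_isOpenEmbedding
          (IsOpenEmbedding.inclusion hWV (hW.preimage continuous_subtype_val))
    let q : O.toScheme → W := fun z => ⟨Points.ofPt a (O.ι z), hOW z.2⟩
    have hq : IsSpectralMap q := isSpectralMap_restrict hF hqs a hO hW fun v hv => hOW hv
    rw [Spectral.Basic.isConstructible_iff_isClopen_cons] at hc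
    have h2 : IsConstructible (q ⁻¹' (W ↓∩ E)) :=
      Spectral.Basic.isConstructible_iff_isClopen_cons.2
        ⟨Spectral.Basic.isClosed_cons_preimage hq hc.1, Spectral.Basic.isOpen_cons_preimage hq hc.2⟩
    exact h2

end Groth.Agent.H8.LocCons.Basic
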